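import Cfsg.Agent.Char.ClassAlg
import Cfsg.Agent.Char.Ortho
import Cfsg.Agent.Char.Linear
import Cfsg.Agent.Core.FPF
import Cfsg.Agent.Coprime.Basic
import Cfsg.Prelude.Def_Blocks

/-!
Characters multiplicative on elements of prime power orders for two different primes.
-/

set_option autoImplicit false
set_option linter.style.haveILetI false

namespace Cfsg.Agent.MulChar

open Subgroup Group
open scoped ComplexConjugate commutatorElement
open Cfsg.Agent

universe u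

variable {G : Type u} [Group G] [Finite G]

/-- The hypothesis. -/
def Hyp (G : Type u) [Group G] : Prop :=
  ∀ (x y : G) (χ : Cfsg.IrrCharacter G), x ≠ 1 → y ≠ 1 →
    (∃ p q a b : ℕ, p.Prime ∧ q.Prime ∧ p ≠ q ∧ orderOf x = p ^ a ∧ orderOf y = q ^ b) →
      (χ : G → ℂ) (x * y) = (χ : G → ℂ) x * (χ : G → ℂ) y

theorem mul_eq_zero_of_hyp (h : Hyp G) (χ : Cfsg.IrrCharacter G) (hχ : (χ : G → ℂ) 1 ≠ 1) {x y : G}
    (hx : x ≠ 1) (hy : y ≠ 1) {p q a b : ℕ} (hp : p.Prime) (hq : q.Prime) (hpq : p ≠ q)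
    (hxo : orderOf x = p ^ a) (hyo : orderOf y = q ^ b) :
    (χ : G → ℂ) x * (χ : G → ℂ) y = 0 := by
  classical
  have := Fintype.ofFinite G
  have hs := Char.sum_conj_mul χ.2 x y
  have hc : ∀ g : G, (χ : G → ℂ) (g * x * g⁻¹ * y) = (χ : G → ℂ) x * (χ : G → ℂ) y := by
    intro g
    have ho : orderOf (g * x * g⁻¹) = p ^ a := hxo ▸ MulEquiv.orderOf_eq (MulAut.conj g) x
    rw [h (g * x * g⁻¹) y χ (fun e => hx (conj_eq_one_iff.1 e)) hy ⟨p, q, a, b, hp, hq, hpq, ho, hyo⟩,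
      Char.isClassFunction_of_isIrr χ.2 x g]
  rw [Finset.sum_congr rfl fun g _ => hc g, Finset.sum_const, Finset.card_univ, nsmul_eq_mul,
    ← Nat.card_eq_fintype_card] at hs
  have hG : (Nat.card G : ℂ) ≠ 0 := Nat.cast_ne_zero.2 Nat.card_pos.ne'
  have : ((χ : G → ℂ) 1 - 1) * ((Nat.card G : ℂ) * ((χ : G → ℂ) x * (χ : G → ℂ) y)) = 0 := by
    linear_combination hs
  simpa [sub_eq_zero, hχ, hG] using this

/-- A character vanishing on the non-trivial elements of a Sylow subgroup has degree divisible by its order. -/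
theorem dvd_degree_of_vanish (χ : Cfsg.IrrCharacter G) {d q : ℕ} [Fact q.Prime] (Q : Sylow q G)
    (hd : (χ : G → ℂ) 1 = d) (hv : ∀ x ∈ (Q : Subgroup G), x ≠ 1 → (χ : G → ℂ) x = 0) :
    Nat.card (Q : Subgroup G) ∣ d := by
  classical
  have := Fintype.ofFinite G
  obtain ⟨n, hn⟩ := Char.classInner_isCharacter_eq_natCast
    (Char.isCharacter_res (Q : Subgroup G) (Char.IsIrr.isCharacter χ.2)) Char.isCharacter_one
  refine ⟨n, Nat.cast_injective (R := ℂ) ?_⟩
  rw [Nat.cast_mul, ← hn, classInner, Finset.sum_eq_single 1]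
  · have hQ : (Nat.card (Q : Subgroup G) : ℂ) ≠ 0 := Nat.cast_ne_zero.2 Nat.card_pos.ne'
    simp [hd, mul_inv_cancel_left₀ hQ]
  · intro z _ hz
    simp [hv z z.2 fun e => hz (Subtype.ext e)]
  · simp

theorem orderOf_pow_part {p : ℕ} [Fact p.Prime] {P : Subgroup G} (hP : IsPGroup p P) {x : G} (hx : x ∈ P) :
    ∃ a, orderOf x = p ^ a := by
  obtain ⟨a, ha⟩ := IsPGroup.iff_orderOf.1 hP ⟨x, hx⟩
  exact ⟨a, by rwa [Subgroup.orderOf_mk] at ha⟩

/-- An element prime to `p` in a group where it is non-trivial has a power of prime order. -/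
theorem exists_prime_pow {a : G} (ha : a ≠ 1) :
    ∃ (q : ℕ) (k : ℕ), q.Prime ∧ orderOf (a ^ k) = q ∧ q ∣ orderOf a := by
  obtain ⟨q, hq, hqd⟩ := Nat.exists_prime_and_dvd (mt orderOf_eq_one_iff.1 ha)
  refine ⟨q, orderOf a / q, hq, ?_, hqd⟩
  rw [orderOf_pow_of_dvd (Nat.div_pos (Nat.le_of_dvd (orderOf_pos a) hqd) hq.pos).ne'
    (Nat.div_dvd_of_dvd hqd), Nat.div_div_self hqd (orderOf_pos a).ne']

/-- Every nonlinear character is supported, on the elements of prime power order, by one prime. -/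
theorem exists_prime (h : Hyp G) (χ : Cfsg.IrrCharacter G) (hχ : (χ : G → ℂ) 1 ≠ 1) :
    ∃ p : ℕ, p.Prime ∧ ∀ q : ℕ, q.Prime → q ≠ p → ∀ x : G, x ≠ 1 →
      (∃ b, orderOf x = q ^ b) → (χ : G → ℂ) x = 0 := by
  by_cases hx : ∃ p a : ℕ, p.Prime ∧ ∃ x : G, x ≠ 1 ∧ orderOf x = p ^ a ∧ (χ : G → ℂ) x ≠ 0
  · obtain ⟨p, a, hp, x, hx1, hxo, hx0⟩ := hx
    refine ⟨p, hp, fun q hq hqp y hy ⟨b, hyo⟩ => ?_⟩
    exact (mul_eq_zero.1 (mul_eq_zero_of_hyp h χ hχ hx1 hy hp hq hqp.symm hxo hyo)).resolve_left hx0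
  · push Not at hx
    exact ⟨2, Nat.prime_two, fun q hq _ y hy ⟨b, hyo⟩ => hx q b hq y hy hyo⟩

/-- The part prime to the exceptional prime divides the degree. -/
theorem ordCompl_dvd_degree (χ : Cfsg.IrrCharacter G) {d p : ℕ} (hp : p.Prime)
    (hd : (χ : G → ℂ) 1 = d)
    (hv : ∀ q : ℕ, q.Prime → q ≠ p → ∀ x : G, x ≠ 1 → (∃ b, orderOf x = q ^ b) → (χ : G → ℂ) x = 0) :
    ordCompl[p] (Nat.card G) ∣ d := by
  refine (Nat.dvd_iff_prime_pow_dvd_dvd _ _).2 fun q k hq hqk => ?_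
  rcases Nat.eq_zero_or_pos k with rfl | hk
  · simp
  have hqp : q ≠ p := by
    rintro rfl
    exact Nat.not_dvd_ordCompl hq Nat.card_pos.ne' ((dvd_pow_self q hk.ne').trans hqk)
  have := Fact.mk hq
  obtain ⟨Q⟩ : Nonempty (Sylow q G) := inferInstance
  refine dvd_trans ?_ (dvd_degree_of_vanish χ Q hd fun x hx hx1 =>
    hv q hq hqp x hx1 (orderOf_pow_part Q.2 hx))
  rw [Q.card_eq_multiplicity]
  exact pow_dvd_pow q ((hq.pow_dvd_iff_le_factorization Nat.card_pos.ne').1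
    (hqk.trans (Nat.ordCompl_dvd _ p)))

theorem sq_degree_lt (χ : Cfsg.IrrCharacter G) {d : ℕ} (hd : (χ : G → ℂ) 1 = d) (hχ : d ≠ 1) :
    d ^ 2 < Nat.card G := by
  classical
  have := Fintype.ofFinite G
  choose e he0 he using fun χ : Cfsg.IrrCharacter G => Char.IsIrr.degree χ.2
  have hsq : ∑ χ : Cfsg.IrrCharacter G, e χ ^ 2 = Nat.card G := by
    have := Char.sum_sq_degree (G := G)
    simp only [he] at this
    exact_mod_cast this
  have hed : e χ = d := Nat.cast_injective (R := ℂ) ((he χ).symm.trans hd)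
  let one : Cfsg.IrrCharacter G := ⟨_, Char.isIrrCharacter_one⟩
  have hne : χ ≠ one := fun e' => hχ (Nat.cast_injective (R := ℂ) (by
    rw [← hd, e', Nat.cast_one]))
  calc d ^ 2 < e χ ^ 2 + e one ^ 2 := by rw [hed]; exact Nat.lt_add_of_pos_right (pow_pos (he0 one) 2)
    _ = ∑ ψ ∈ ({χ, one} : Finset (Cfsg.IrrCharacter G)), e ψ ^ 2 :=
      (Finset.sum_pair (f := fun ψ => e ψ ^ 2) hne).symm
    _ ≤ _ := hsq ▸ Finset.sum_le_sum_of_subset (Finset.subset_univ _)

theorem two_parts_false {n P R m m' : ℕ} (hn : 0 < n) (e1 : P * m = n) (e2 : R * m' = n)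
    (h : P * R ≤ n) (a1 : m ^ 2 < n) (a2 : m' ^ 2 < n) : False := by
  have a3 : n * n ≤ n * (m * m') := by
    calc n * n = (P * m) * (R * m') := by rw [e1, e2]
      _ = (P * R) * (m * m') := by ring
      _ ≤ n * (m * m') := Nat.mul_le_mul_right _ h
  have a4 := Nat.le_of_mul_le_mul_left a3 hn
  nlinarith [two_mul_le_add_sq m m']

/-- One prime serves for all nonlinear characters. -/
theorem exists_prime_all (h : Hyp G) (hnab : ¬ IsMulCommutative G) :
    ∃ p : ℕ, p.Prime ∧ ∀ χ : Cfsg.IrrCharacter G, (χ : G → ℂ) 1 ≠ 1 → ∀ q : ℕ, q.Prime → q ≠ p →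
      ∀ x : G, x ≠ 1 → (∃ b, orderOf x = q ^ b) → (χ : G → ℂ) x = 0 := by
  obtain ⟨χ₀, hχ₀⟩ : ∃ χ : Cfsg.IrrCharacter G, (χ : G → ℂ) 1 ≠ 1 := by
    by_contra hcon
    push Not at hcon
    exact hnab ⟨⟨(Char.forall_degree_one_iff).1 hcon⟩⟩
  obtain ⟨p, hp, hv₀⟩ := exists_prime h χ₀ hχ₀
  refine ⟨p, hp, fun χ hχ => ?_⟩
  obtain ⟨r, hr, hv⟩ := exists_prime h χ hχ
  by_cases hrp : r = p
  · subst hrp; exact hv
  exfalso
  obtain ⟨d₀, hd₀0, hd₀⟩ := Char.IsIrr.degree χ₀.2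
  obtain ⟨d, hd0, hd⟩ := Char.IsIrr.degree χ.2
  have h4 := sq_degree_lt χ₀ hd₀ fun e => hχ₀ (by rw [hd₀, e, Nat.cast_one])
  have h5 := sq_degree_lt χ hd fun e => hχ (by rw [hd, e, Nat.cast_one])
  have h1 := Nat.le_of_dvd hd₀0 (ordCompl_dvd_degree χ₀ hp hd₀ hv₀)
  have h2 := Nat.le_of_dvd hd0 (ordCompl_dvd_degree χ hr hd hv)
  exact two_parts_false Nat.card_pos (Nat.ordProj_mul_ordCompl_eq_self _ p)
    (Nat.ordProj_mul_ordCompl_eq_self _ r)
    (Nat.le_of_dvd Nat.card_pos (Nat.Coprime.mul_dvd_of_dvd_of_dvd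
      (((Nat.coprime_primes hp hr).2 (Ne.symm hrp)).pow _ _) (Nat.ordProj_dvd _ p) (Nat.ordProj_dvd _ r)))
    (lt_of_le_of_lt (Nat.pow_le_pow_left h1 2) h4) (lt_of_le_of_lt (Nat.pow_le_pow_left h2 2) h5)

theorem isPGroup_commutator {p : ℕ} [hp : Fact p.Prime]
    (hall : ∀ χ : Cfsg.IrrCharacter G, (χ : G → ℂ) 1 ≠ 1 → ∀ q : ℕ, q.Prime → q ≠ p →
      ∀ x : G, x ≠ 1 → (∃ b, orderOf x = q ^ b) → (χ : G → ℂ) x = 0) :
    IsPGroup p (commutator G) := by
  classical
  have := Fintype.ofFinite G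
  choose d hd0 hd using fun χ : Cfsg.IrrCharacter G => Char.IsIrr.degree χ.2
  have hsq : ∑ χ : Cfsg.IrrCharacter G, d χ ^ 2 = Nat.card G := by
    have := Char.sum_sq_degree (G := G)
    simp only [hd] at this
    exact_mod_cast this
  have hlin : (Finset.univ.filter fun χ : Cfsg.IrrCharacter G => d χ = 1).card = (commutator G).index := by
    rw [← Char.card_linear, Nat.card_eq_fintype_card, Fintype.card_subtype]
    refine congrArg Finset.card (Finset.filter_congr fun χ _ => ?_)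
    rw [hd χ, Nat.cast_eq_one]
  have hsplit := Finset.sum_filter_add_sum_filter_not (Finset.univ : Finset (Cfsg.IrrCharacter G))
    (fun χ => d χ = 1) (fun χ => d χ ^ 2)
  rw [hsq, Finset.sum_congr rfl (fun χ hχ => by rw [(Finset.mem_filter.1 hχ).2, one_pow] :
    ∀ χ ∈ Finset.univ.filter (fun χ : Cfsg.IrrCharacter G => d χ = 1), d χ ^ 2 = 1), Finset.sum_const,
    smul_eq_mul, mul_one, hlin] at hsplit
  have hrest : ordCompl[p] (Nat.card G) ∣
      ∑ χ ∈ Finset.univ.filter (fun χ : Cfsg.IrrCharacter G => ¬ d χ = 1), d χ ^ 2 :=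
    Finset.dvd_sum fun χ hχ => dvd_pow (ordCompl_dvd_degree χ hp.out (hd χ) (hall χ fun e =>
      (Finset.mem_filter.1 hχ).2 (Nat.cast_injective (R := ℂ) (by rw [← hd χ, e, Nat.cast_one])))) two_ne_zero
  obtain ⟨c, hc⟩ : ordCompl[p] (Nat.card G) ∣ (commutator G).index := by
    have h0 : ordCompl[p] (Nat.card G) ∣ Nat.card G := Nat.ordCompl_dvd _ p
    exact (Nat.dvd_add_left hrest).1 (by rwa [hsplit])
  have h1 := (commutator G).card_mul_index
  rw [hc] at h1
  have h2 : Nat.card (commutator G) ∣ ordProj[p] (Nat.card G) := by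
    refine ⟨c, Nat.eq_of_mul_eq_mul_right (Nat.ordCompl_pos p (Nat.card_pos (α := G)).ne') ?_⟩
    rw [Nat.ordProj_mul_ordCompl_eq_self, mul_assoc, mul_comm c]
    exact h1.symm
  obtain ⟨k, -, hk⟩ := (Nat.dvd_prime_pow hp.out).1 h2
  exact IsPGroup.of_card hk

theorem card_centralizer {p : ℕ}
    (hall : ∀ χ : Cfsg.IrrCharacter G, (χ : G → ℂ) 1 ≠ 1 → ∀ q : ℕ, q.Prime → q ≠ p →
      ∀ x : G, x ≠ 1 → (∃ b, orderOf x = q ^ b) → (χ : G → ℂ) x = 0)
    {a : G} (hq : (orderOf a).Prime) (hqp : orderOf a ≠ p) :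
    Nat.card (centralizer ({a} : Set G)) = (commutator G).index := by
  classical
  have := Fintype.ofFinite G
  have hsum := Char.second_orthogonality a a
  rw [if_pos (IsConj.refl a)] at hsum
  refine Nat.cast_injective (R := ℂ) ?_
  rw [← hsum, ← Char.card_linear, Nat.card_eq_fintype_card, Fintype.card_subtype, Finset.card_filter,
    Nat.cast_sum]
  refine Finset.sum_congr rfl fun χ _ => ?_
  by_cases hχ : (χ : G → ℂ) 1 = 1
  · rw [if_pos hχ, Nat.cast_one]
    obtain ⟨f, hf⟩ := Char.IsChar.exists_hom (Char.IsIrr.isCharacter χ.2) hχ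
    rw [hf, Complex.mul_conj']
    have : ‖((f a : ℂˣ) : ℂ)‖ = 1 := Complex.norm_eq_one_of_pow_eq_one
      (n := orderOf a) (by rw [← Units.val_pow_eq_pow_val, ← map_pow, pow_orderOf_eq_one, map_one,
        Units.val_one]) (orderOf_pos a).ne'
    rw [this]; simp
  · rw [if_neg hχ, Nat.cast_zero, hall χ hχ _ hq hqp a (fun e => hq.ne_one (orderOf_eq_one_iff.2 e))
      ⟨1, (pow_one _).symm⟩, zero_mul]

theorem forward (h : Hyp G) (hnp : ¬ ∃ p : ℕ, p.Prime ∧ IsPGroup p G) (hnab : ¬ IsMulCommutative G) :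
    ∃ (p : ℕ) (_ : Fact p.Prime) (P : Sylow p G) (A : Subgroup G), (P : Subgroup G).Normal ∧
      IsCyclic ↥A ∧ A ≠ ⊥ ∧ (Nat.card ↥A).Coprime p ∧ A ⊔ (P : Subgroup G) = ⊤ ∧
      IsMulCommutative ↥((P : Subgroup G) ⊓ centralizer (A : Set G)) ∧ (⁅A, (P : Subgroup G)⁆).Normal ∧
      ((P : Subgroup G) ⊓ centralizer (A : Set G)) ⊔ ⁅A, (P : Subgroup G)⁆ = (P : Subgroup G) ∧
      ((P : Subgroup G) ⊓ centralizer (A : Set G)) ⊓ ⁅A, (P : Subgroup G)⁆ = ⊥ ∧
      ∀ a ∈ A, a ≠ 1 → ∀ d ∈ ⁅A, (P : Subgroup G)⁆, a * d = d * a → d = 1 := by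
  obtain ⟨p, hp, hall⟩ := exists_prime_all h hnab
  have := Fact.mk hp
  have hG'p : IsPGroup p (commutator G) := isPGroup_commutator hall
  obtain ⟨P⟩ : Nonempty (Sylow p G) := inferInstance
  have hGP : commutator G ≤ (P : Subgroup G) := by
    obtain ⟨Q, hQ⟩ := hG'p.exists_le_sylow
    obtain ⟨g, rfl⟩ := MulAction.exists_smul_eq G Q P
    intro z hz
    have := hQ ((inferInstance : (commutator G).Normal).conj_mem z hz g⁻¹)
    rw [Sylow.coe_subgroup_smul, Subgroup.mem_smul_pointwise_iff_exists]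
    exact ⟨_, this, by simp [mul_assoc]⟩
  have hPn : (P : Subgroup G).Normal := Subgroup.Normal.of_commutator_le G hGP
  obtain ⟨A, hA⟩ := exists_right_complement'_of_coprime P.card_coprime_index
  have hAcard : Nat.card A = (P : Subgroup G).index := hA.symm.index_eq_card.symm
  have hcopP : (Nat.card A).Coprime (Nat.card (P : Subgroup G)) := by
    rw [hAcard]; exact P.card_coprime_index.symm
  have hAp : (Nat.card A).Coprime p := by
    rw [hAcard]; exact ((Nat.Prime.coprime_iff_not_dvd hp).2 P.not_dvd_index).symm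
  have hAsup : A ⊔ (P : Subgroup G) = ⊤ := by rw [sup_comm]; exact hA.sup_eq_top
  have hAP : (P : Subgroup G) ⊓ A = ⊥ := hA.disjoint.eq_bot
  have hAne : A ≠ ⊥ := by
    rintro rfl
    rw [bot_sup_eq] at hAsup
    exact hnp ⟨p, hp, fun g => by
      obtain ⟨n, hn⟩ := P.isPGroup' ⟨g, hAsup.ge (mem_top g)⟩
      exact ⟨n, congrArg Subtype.val hn⟩⟩
  have hAab : ∀ a ∈ A, ∀ b ∈ A, a * b = b * a := fun a ha b hb => by
    have h1 : ⁅a, b⁆ ∈ (P : Subgroup G) ⊓ A :=
      ⟨hGP (commutator_mem_commutator (mem_top a) (mem_top b)),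
        A.mul_mem (A.mul_mem (A.mul_mem ha hb) (A.inv_mem ha)) (A.inv_mem hb)⟩
    rw [hAP, mem_bot] at h1
    exact commutatorElement_eq_one_iff_mul_comm.1 h1
  set C := (P : Subgroup G) ⊓ centralizer (A : Set G) with hC
  set D := ⁅A, (P : Subgroup G)⁆ with hD
  have hDle : D ≤ commutator G := commutator_mono le_top le_top
  have hCD : C ⊔ D = (P : Subgroup G) := by
    rw [hD, Subgroup.commutator_comm, sup_comm]
    exact Coprime.commutator_sup_centralizer le_normalizer_of_normal hcopP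
      (Or.inr (IsNilpotent.to_isSolvable (h := P.2.isNilpotent)))
  -- centralisers of elements of prime order of A
  have hkey : ∀ a ∈ A, (orderOf a).Prime →
      Nat.card ((P : Subgroup G) ⊓ centralizer ({a} : Set G) : Subgroup G) * Nat.card (commutator G) =
        Nat.card (P : Subgroup G) := by
    intro a ha hq
    have hqp : orderOf a ≠ p := fun e => hq.ne_one (Nat.eq_one_of_dvd_coprimes hAp
      (Subgroup.orderOf_dvd_natCard A ha) (e ▸ dvd_rfl))
    have hL' := card_centralizer hall hq hqp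
    set K := centralizer ({a} : Set G)
    have hAK : A ≤ K := fun b hb => mem_centralizer_singleton_iff.2 (hAab b hb a ha)
    have hdec : ((P : Subgroup G) ⊓ K) ⊔ A = K := by
      refine le_antisymm (sup_le inf_le_right hAK) fun k hk => ?_
      obtain ⟨b, hb, u, hu, rfl⟩ := mem_sup_of_normal_right.1 (hAsup.ge (mem_top k))
      exact mul_mem (le_sup_right (α := Subgroup G) hb)
        (le_sup_left (α := Subgroup G) ⟨hu, (K.mul_mem_cancel_left (hAK hb)).1 hk⟩)
    have hcK : Nat.card K = Nat.card ((P : Subgroup G) ⊓ K : Subgroup G) * Nat.card A := by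
      conv_lhs => rw [← hdec]
      refine Coprime.card_sup_eq_mul (fun b hb => ?_) (eq_bot_mono (inf_le_inf_right _ inf_le_left) hAP)
      refine mem_normalizer_fintype fun u hu => ⟨hPn.conj_mem u hu.1 b, ?_⟩
      exact K.mul_mem (K.mul_mem (hAK hb) hu.2) (K.inv_mem (hAK hb))
    have h1 := (commutator G).card_mul_index
    rw [← hL', hcK, ← (P : Subgroup G).card_mul_index, ← hAcard, ← mul_assoc] at h1
    rw [mul_comm]
    exact Nat.eq_of_mul_eq_mul_right Nat.card_pos h1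
  obtain ⟨q, hq, hqA⟩ := Nat.exists_prime_and_dvd (mt Subgroup.card_eq_one.1 hAne)
  have := Fact.mk hq
  obtain ⟨⟨a₀, ha₀⟩, ha₀o⟩ := exists_prime_orderOf_dvd_card' (G := A) q hqA
  rw [Subgroup.orderOf_mk] at ha₀o
  have hCle : ∀ a ∈ A, C ≤ (P : Subgroup G) ⊓ centralizer ({a} : Set G) := fun a ha =>
    inf_le_inf_left _ (centralizer_le (Set.singleton_subset_iff.2 ha))
  have hCG : C ⊔ commutator G = (P : Subgroup G) :=
    le_antisymm (sup_le inf_le_left hGP) (hCD.ge.trans (sup_le_sup_left hDle C))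
  have hcnt : Nat.card (P : Subgroup G) * Nat.card (C ⊓ commutator G : Subgroup G) =
      Nat.card C * Nat.card (commutator G) := by
    have h1 : (commutator G).relIndex (P : Subgroup G) = (commutator G).relIndex C := by
      conv_lhs => rw [← hCG]
      exact Subgroup.relIndex_sup_right C (commutator G)
    have h2 := relIndex_mul_relIndex ⊥ (C ⊓ commutator G) C bot_le inf_le_left
    have h3 := relIndex_mul_relIndex ⊥ (commutator G) (P : Subgroup G) bot_le hGP
    simp only [relIndex_bot_left, inf_relIndex_left] at h2 h3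
    rw [← h3, h1, ← h2]
    ring
  have h0 := hkey a₀ ha₀ (ha₀o ▸ hq)
  have hc1 := card_le_of_le (hCle a₀ ha₀)
  have hinf : Nat.card (C ⊓ commutator G : Subgroup G) = 1 := by
    have hpos : 0 < Nat.card (C ⊓ commutator G : Subgroup G) := Nat.card_pos
    have hPpos : 0 < Nat.card (P : Subgroup G) := Nat.card_pos
    have h5 : Nat.card (P : Subgroup G) * Nat.card (C ⊓ commutator G : Subgroup G) ≤
        Nat.card (P : Subgroup G) * 1 := by
      rw [hcnt, mul_one]; exact (Nat.mul_le_mul_right _ hc1).trans h0.le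
    have := Nat.le_of_mul_le_mul_left h5 hPpos
    omega
  have hCGb : C ⊓ commutator G = ⊥ := Subgroup.card_eq_one.1 hinf
  rw [hinf, mul_one] at hcnt
  have hCDb : C ⊓ D = ⊥ := eq_bot_mono (inf_le_inf_left C hDle) hCGb
  have hCN : C ≤ normalizer (D : Set G) := by
    intro x hx
    refine mem_normalizer_fintype fun z hz => ?_
    have hm : (MulAut.conj x) z ∈ D.map (MulAut.conj x).toMonoidHom := ⟨z, hz, rfl⟩
    rw [hD, map_commutator] at hm
    refine commutator_mono ?_ ?_ hm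
    · rintro _ ⟨b, hb, rfl⟩
      show x * b * x⁻¹ ∈ A
      rw [show x * b = b * x from (mem_centralizer_iff.1 hx.2 b hb).symm, mul_inv_cancel_right]
      exact hb
    · rintro _ ⟨b, hb, rfl⟩
      exact hPn.conj_mem b hb x
  have hDG : D = commutator G := by
    refine le_antisymm hDle fun z hz => ?_
    obtain ⟨d, hd, c, hc, rfl⟩ := (Coprime.mem_sup_of_le_normalizer hCN).1
      (sup_comm C D ▸ hCD.ge (hGP hz))
    have : c ∈ C ⊓ commutator G := ⟨hc, ((commutator G).mul_mem_cancel_left (hDle hd)).1 hz⟩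
    rw [hCGb, mem_bot] at this
    rw [this, mul_one]; exact hd
  have hCeq : ∀ a ∈ A, (orderOf a).Prime → (P : Subgroup G) ⊓ centralizer ({a} : Set G) = C := by
    intro a ha hao
    refine (eq_of_le_of_card_ge (hCle a ha) ?_).symm
    have h1 := hkey a ha hao
    exact le_of_eq (Nat.eq_of_mul_eq_mul_right Nat.card_pos (h1.trans hcnt))
  have hfpf : ∀ a ∈ A, a ≠ 1 → ∀ z ∈ D, a * z = z * a → z = 1 := by
    intro a ha ha1 z hz hcomm
    obtain ⟨r, k, hr, hrk, -⟩ := exists_prime_pow ha1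
    have : z ∈ (P : Subgroup G) ⊓ centralizer ({a ^ k} : Set G) :=
      ⟨hGP (hDle hz), mem_centralizer_singleton_iff.2 ((Commute.pow_left hcomm k).symm.eq)⟩
    rw [hCeq _ (A.pow_mem ha k) (hrk ▸ hr)] at this
    exact mem_bot.1 (hCDb ▸ ⟨this, hz⟩)
  have hDn : D.Normal := hDG ▸ inferInstance
  have hDne : D ≠ ⊥ := fun e => hnab ⟨⟨fun x y => commutatorElement_eq_one_iff_mul_comm.1
    (mem_bot.1 ((hDG ▸ e) ▸ commutator_mem_commutator (mem_top x) (mem_top y)))⟩⟩
  have hcyc : IsCyclic A := by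
    open scoped IsMulCommutative in
    let W : Subgroup G := D ⊓ centralizer (D : Set G)
    have hWab : IsMulCommutative W := ⟨⟨fun x y => Subtype.ext (mem_centralizer_iff.1 y.2.2 x x.2.1)⟩⟩
    have hWne : Nontrivial W := by
      have hDp : IsPGroup p D := hG'p.to_le hDle
      have : Nontrivial D := (Subgroup.nontrivial_iff_ne_bot D).2 hDne
      have := hDp.center_nontrivial
      obtain ⟨z, hz⟩ := exists_ne (1 : center D)
      refine ⟨⟨⟨_, (z : D).2, mem_centralizer_iff.2 fun x hx =>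
        congrArg Subtype.val (mem_center_iff.1 z.2 ⟨x, hx⟩)⟩, 1, fun e => hz ?_⟩⟩
      exact Subtype.ext (Subtype.ext (congrArg (fun w : W => (w : G)) e))
    have hWn : A ≤ normalizer (W : Set G) := le_normalizer_of_normal
    refine Core.IsFPF.isCyclic_of_comm (Core.exists_isFPF hWn fun a ha ha1 => ?_)
      ⟨⟨fun x y => Subtype.ext (hAab x x.2 y y.2)⟩⟩
    rw [eq_bot_iff]
    rintro z ⟨hz, hz'⟩
    exact mem_bot.2 (hfpf a ha ha1 z hz.1 (mem_centralizer_singleton_iff.1 hz').symm)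
  refine ⟨p, inferInstance, P, A, hPn, hcyc, hAne, hAp, hAsup, ⟨⟨fun x y => Subtype.ext ?_⟩⟩,
    hDn, hCD, hCDb, hfpf⟩
  have : ⁅(x : G), (y : G)⁆ ∈ C ⊓ D := ⟨C.mul_mem (C.mul_mem (C.mul_mem x.2 y.2) (C.inv_mem x.2)) (C.inv_mem y.2),
    hDG ▸ commutator_mem_commutator (mem_top _) (mem_top _)⟩
  rw [hCDb, mem_bot] at this
  exact commutatorElement_eq_one_iff_mul_comm.1 this

/-- In the third case the non-linear characters vanish outside the normal Sylow subgroup. -/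
theorem eq_zero_of_notMem {p : ℕ} [Fact p.Prime] (P : Sylow p G) (A : Subgroup G)
    (hPn : (P : Subgroup G).Normal) (hAab : IsMulCommutative A) (hAp : (Nat.card A).Coprime p)
    (hsup : A ⊔ (P : Subgroup G) = ⊤)
    (hCab : IsMulCommutative ↥((P : Subgroup G) ⊓ centralizer (A : Set G)))
    (hDn : (⁅A, (P : Subgroup G)⁆).Normal)
    (hCD : ((P : Subgroup G) ⊓ centralizer (A : Set G)) ⊔ ⁅A, (P : Subgroup G)⁆ = (P : Subgroup G))
    (hfpf : ∀ a ∈ A, a ≠ 1 → ∀ d ∈ ⁅A, (P : Subgroup G)⁆, a * d = d * a → d = 1)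
    (χ : Cfsg.IrrCharacter G) (hχ : (χ : G → ℂ) 1 ≠ 1) {g : G} (hg : g ∉ (P : Subgroup G)) :
    (χ : G → ℂ) g = 0 := by
  classical
  have := Fintype.ofFinite G
  set C := (P : Subgroup G) ⊓ centralizer (A : Set G) with hC
  set D := ⁅A, (P : Subgroup G)⁆ with hD
  have hle : commutator G ≤ D := by
    have hgen : ∀ x : G, ∃ a ∈ A, ∃ c ∈ C, ∃ e ∈ D, x = a * c * e := by
      intro x
      obtain ⟨a, ha, u, hu, rfl⟩ := mem_sup_of_normal_right.1 (hsup.ge (mem_top x))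
      obtain ⟨c, hc, e, he, rfl⟩ := mem_sup_of_normal_right.1 (hCD.ge hu)
      exact ⟨a, ha, c, hc, e, he, (mul_assoc _ _ _).symm⟩
    refine Subgroup.Normal.commutator_le_of_self_sup_commutative_eq_top
      (N := D) (H := A ⊔ C) (eq_top_iff.2 fun x _ => ?_) ?_
    · obtain ⟨a, ha, c, hc, e, he, rfl⟩ := hgen x
      exact mul_mem (le_sup_right (α := Subgroup G) (mul_mem (le_sup_left (α := Subgroup G) ha)
        (le_sup_right (α := Subgroup G) hc))) (le_sup_left (α := Subgroup G) he)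
    · rw [sup_eq_closure]
      refine isMulCommutative_closure ?_
      rintro x (hx | hx) y (hy | hy)
      · exact congrArg Subtype.val (hAab.is_comm.comm ⟨x, hx⟩ ⟨y, hy⟩)
      · exact mem_centralizer_iff.1 hy.2 x hx
      · exact (mem_centralizer_iff.1 hx.2 y hy).symm
      · exact congrArg Subtype.val (hCab.is_comm.comm ⟨x, hx⟩ ⟨y, hy⟩)
  obtain ⟨a, ha, u, hu, rfl⟩ := mem_sup_of_normal_right.1 (hsup.ge (mem_top g))
  obtain ⟨c, hc, e, he, rfl⟩ := mem_sup_of_normal_right.1 (hCD.ge hu)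
  have ha1 : a ≠ 1 := by
    rintro rfl
    exact hg (by rw [one_mul]; exact hu)
  have hac : Commute a c := (mem_centralizer_iff.1 hc.2 a ha)
  obtain ⟨k, hk⟩ := IsPGroup.iff_orderOf.1 P.2 ⟨c, hc.1⟩
  rw [Subgroup.orderOf_mk] at hk
  have hfix : ∀ z ∈ D, (a * c) * z = z * (a * c) → z = 1 := by
    intro z hz hcomm
    have hpow : (a * c) ^ p ^ k = a ^ p ^ k := by
      rw [hac.mul_pow, ← hk, pow_orderOf_eq_one, mul_one]
    refine hfpf (a ^ p ^ k) (A.pow_mem ha _) ?_ z hz (hpow ▸ (Commute.pow_left hcomm _).eq)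
    intro e0
    refine ha1 (orderOf_eq_one_iff.1 (Nat.eq_one_of_dvd_coprimes (hAp.pow_right k)
      (Subgroup.orderOf_dvd_natCard A ha) (orderOf_dvd_of_pow_eq_one e0)))
  -- `g` is conjugate to `a * c`
  obtain ⟨f, hf, hfe⟩ : ∃ f ∈ D, f⁻¹ * (a * c) * f = a * (c * e) := by
    let φ : D → D := fun f => ⟨(a * c)⁻¹ * (f : G)⁻¹ * (a * c) * f, D.mul_mem
      (by simpa using hDn.conj_mem _ (D.inv_mem f.2) (a * c)⁻¹) f.2⟩
    have hφ : Function.Injective φ := by
      intro f₁ f₂ e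
      have e' : (f₁ : G)⁻¹ * (a * c) * f₁ = (f₂ : G)⁻¹ * (a * c) * f₂ := by
        have := congrArg (fun t : D => (a * c) * (t : G)) e
        simpa [φ, mul_assoc] using this
      have := hfix ((f₂ : G) * (f₁ : G)⁻¹) (D.mul_mem f₂.2 (D.inv_mem f₁.2)) (by
        calc a * c * ((f₂ : G) * (f₁ : G)⁻¹)
            = (f₂ : G) * ((f₂ : G)⁻¹ * (a * c) * f₂) * (f₁ : G)⁻¹ := by group
          _ = (f₂ : G) * (f₁ : G)⁻¹ * (a * c) := by rw [← e']; group)
      exact Subtype.ext (mul_inv_eq_one.1 this).symm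
    obtain ⟨f, hf⟩ := Finite.surjective_of_injective hφ ⟨e, he⟩
    refine ⟨f, f.2, ?_⟩
    have := congrArg (fun t : D => (a * c) * (t : G)) hf
    simpa [φ, mul_assoc] using this
  have hconj : IsConj (a * c) (a * (c * e)) := isConj_iff.2 ⟨f⁻¹, by rw [inv_inv]; exact hfe⟩
  rw [← Char.classFun_isConj (Char.isClassFunction_of_isIrr χ.2) hconj]
  -- count
  set x := a * c with hx
  set K := centralizer ({x} : Set G) with hK
  have hKD : D ⊓ K = ⊥ := by
    rw [eq_bot_iff]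
    rintro z ⟨hz, hz'⟩
    exact mem_bot.2 (hfix z hz (mem_centralizer_singleton_iff.1 hz').symm)
  have hKcard : Nat.card K ≤ (commutator G).index := by
    calc Nat.card K = D.relIndex K := by rw [← inf_relIndex_right, hKD, relIndex_bot_left]
      _ ≤ D.index :=
          Nat.le_of_dvd (Nat.pos_of_ne_zero index_ne_zero_of_finite) (relIndex_dvd_index_of_normal D K)
      _ ≤ _ := Nat.le_of_dvd (Nat.pos_of_ne_zero index_ne_zero_of_finite) (index_dvd_of_le hle)
  have hsum := Char.second_orthogonality x x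
  rw [if_pos (IsConj.refl x)] at hsum
  have hsum' : ∑ ψ : Cfsg.IrrCharacter G, ‖(ψ : G → ℂ) x‖ ^ 2 = (Nat.card K : ℝ) := by
    refine Complex.ofReal_injective ?_
    push_cast
    rw [← hsum]
    exact Finset.sum_congr rfl fun ψ _ => (Complex.mul_conj' _).symm
  have hlin : ∀ ψ : Cfsg.IrrCharacter G, (ψ : G → ℂ) 1 = 1 → ‖(ψ : G → ℂ) x‖ ^ 2 = 1 := by
    intro ψ hψ
    obtain ⟨f, hf⟩ := Char.IsChar.exists_hom (Char.IsIrr.isCharacter ψ.2) hψ
    have : ‖((f x : ℂˣ) : ℂ)‖ = 1 := Complex.norm_eq_one_of_pow_eq_one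
      (n := orderOf x) (by rw [← Units.val_pow_eq_pow_val, ← map_pow, pow_orderOf_eq_one, map_one,
        Units.val_one]) (orderOf_pos x).ne'
    rw [hf]; simp only; rw [this, one_pow]
  by_contra hne
  have hsplit := Finset.sum_filter_add_sum_filter_not (Finset.univ : Finset (Cfsg.IrrCharacter G))
    (fun ψ => (ψ : G → ℂ) 1 = 1) (fun ψ => ‖(ψ : G → ℂ) x‖ ^ 2)
  rw [Finset.sum_congr rfl fun ψ hψ => hlin ψ (Finset.mem_filter.1 hψ).2, Finset.sum_const, nsmul_eq_mul,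
    mul_one, ← Fintype.card_subtype, ← Nat.card_eq_fintype_card, Char.card_linear, hsum'] at hsplit
  have hpos : 0 < ∑ ψ ∈ Finset.univ.filter (fun ψ : Cfsg.IrrCharacter G => ¬ (ψ : G → ℂ) 1 = 1),
      ‖(ψ : G → ℂ) x‖ ^ 2 :=
    Finset.sum_pos' (fun ψ _ => by positivity) ⟨χ, by simp [hχ], by positivity⟩
  have : (Nat.card K : ℝ) ≤ (commutator G).index := by exact_mod_cast hKcard
  linarith

theorem iff_result :
    Hyp G ↔ ((∃ p : ℕ, p.Prime ∧ IsPGroup p G) ∨ IsMulCommutative G ∨ ∃ (p : ℕ) (_ : Fact p.Prime) (P : Sylow p G) (A : Subgroup G), (P : Subgroup G).Normal ∧ IsCyclic ↥A ∧ A ≠ ⊥ ∧ (Nat.card ↥A).Coprime p ∧ A ⊔ (P : Subgroup G) = ⊤ ∧ IsMulCommutative ↥((P : Subgroup G) ⊓ Subgroup.centralizer (A : Set G)) ∧ (⁅A, (P : Subgroup G)⁆).Normal ∧ ((P : Subgroup G) ⊓ Subgroup.centralizer (A : Set G)) ⊔ ⁅A, (P : Subgroup G)⁆ = (P : Subgroup G) ∧ ((P : Subgroup G) ⊓ Subgroup.centralizer (A : Set G)) ⊓ ⁅A, (P : Subgroup G)⁆ = ⊥ ∧ ∀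 a ∈ A, a ≠ 1 → ∀ d ∈ ⁅A, (P : Subgroup G)⁆, a * d = d * a → d = 1) := by
  constructor
  · intro h
    by_cases h1 : ∃ p : ℕ, p.Prime ∧ IsPGroup p G
    · exact Or.inl h1
    by_cases h2 : IsMulCommutative G
    · exact Or.inr (Or.inl h2)
    exact Or.inr (Or.inr (forward h h1 h2))
  · rintro hcase x y χ hx hy ⟨r, s, i, j, hr, hs, hrs, hxo, hyo⟩
    have hlinear : (χ : G → ℂ) 1 = 1 → (χ : G → ℂ) (x * y) = (χ : G → ℂ) x * (χ : G → ℂ) y := by
      intro h1
      obtain ⟨f, hf⟩ := Char.IsChar.exists_hom (Char.IsIrr.isCharacter χ.2) h1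
      rw [hf]; simp
    rcases hcase with ⟨p, hp, hP⟩ | hab | ⟨p, _, P, A, hPn, hcyc, -, hAp, hsup, hCab, hDn, hCD, -, hfpf⟩
    · exfalso
      have := Fact.mk hp
      have key : ∀ (z : G) (t n : ℕ), t.Prime → z ≠ 1 → orderOf z = t ^ n → t = p := by
        intro z t n ht hz hzo
        obtain ⟨l, hl⟩ := IsPGroup.iff_orderOf.1 hP z
        have hn : n ≠ 0 := by rintro rfl; exact hz (orderOf_eq_one_iff.1 (by simpa using hzo))
        exact (Nat.prime_dvd_prime_iff_eq ht hp).1 (ht.dvd_of_dvd_pow (n := l) (hl ▸ hzo ▸ dvd_pow_self t hn))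
      exact hrs ((key x r i hr hx hxo).trans (key y s j hs hy hyo).symm)
    · exact hlinear (Char.IsIrr.degree_one_of_isMulCommutative χ.2)
    by_cases h1 : (χ : G → ℂ) 1 = 1
    · exact hlinear h1
    have hAab : IsMulCommutative A := IsCyclic.isMulCommutative
    have hz := fun {g : G} (hg : g ∉ (P : Subgroup G)) =>
      eq_zero_of_notMem P A hPn hAab hAp hsup hCab hDn hCD hfpf χ h1 hg
    have hor : x ∉ (P : Subgroup G) ∨ y ∉ (P : Subgroup G) := by
      by_contra hcon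
      push Not at hcon
      have key : ∀ (z : G) (t n : ℕ), t.Prime → z ≠ 1 → orderOf z = t ^ n → z ∈ (P : Subgroup G) → t = p := by
        intro z t n ht hz hzo hzP
        obtain ⟨l, hl⟩ := orderOf_pow_part P.2 hzP
        have hn : n ≠ 0 := by rintro rfl; exact hz (orderOf_eq_one_iff.1 (by simpa using hzo))
        exact (Nat.prime_dvd_prime_iff_eq ht Fact.out).1 (ht.dvd_of_dvd_pow (n := l) (hl ▸ hzo ▸ dvd_pow_self t hn))
      exact hrs ((key x r i hr hx hxo hcon.1).trans (key y s j hs hy hyo hcon.2).symm)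
    have hxy : x * y ∉ (P : Subgroup G) := by
      intro hmem
      let π := QuotientGroup.mk' (P : Subgroup G)
      have e : π y = (π x)⁻¹ := eq_inv_of_mul_eq_one_right
        (by rw [← map_mul]; exact (QuotientGroup.eq_one_iff _).2 hmem)
      have hcop : (orderOf x).Coprime (orderOf y) := hxo ▸ hyo ▸ ((Nat.coprime_primes hr hs).2 hrs).pow i j
      have h3 : orderOf (π x) = 1 := Nat.eq_one_of_dvd_coprimes hcop (orderOf_map_dvd π x)
        ((orderOf_inv (π x)).symm.dvd.trans (e ▸ orderOf_map_dvd π y))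
      have hxP : x ∈ (P : Subgroup G) := (QuotientGroup.eq_one_iff x).1 (orderOf_eq_one_iff.1 h3)
      rcases hor with h | h
      · exact h hxP
      · exact h ((P : Subgroup G).mul_mem_cancel_left hxP |>.1 hmem)
    rw [hz hxy]
    rcases hor with h | h <;> simp [hz h]

end Cfsg.Agent.MulChar
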